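import Cfsg.Agent.CosetEnum.He.Order
import Cfsg.Agent.CosetEnum.He.Sp4.Data

/-!
The group `N` generated by `a, c, d, e, f, (bcde)^7` in the action on 2058 points permutes 85
blocks, evenly, and its image has order at least 979200.
-/

set_option autoImplicit false

namespace CfsgLib.CosetEnum.He.Sp4

/-- the words of `a, c, d, e, f, u = (bcde)^7` and `u⁻¹` -/
def nW : ℕ → List ℕ
  | 0 => [0]
  | 1 => [2]
  | 2 => [3]
  | 3 => [4]
  | 4 => [5]
  | 5 => [1, 2, 3, 4, 1, 2, 3, 4, 1, 2, 3, 4, 1, 2, 3, 4, 1, 2, 3, 4, 1, 2, 3, 4, 1, 2, 3, 4]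
  | _ => [4, 3, 2, 1, 4, 3, 2, 1, 4, 3, 2, 1, 4, 3, 2, 1, 4, 3, 2, 1, 4, 3, 2, 1, 4, 3, 2, 1]

/-- the table on the blocks -/
noncomputable abbrev perm : PermData := ⟨7, 85, iv, [], T, par⟩

theorem points : allBelow (checkPoint iv 7 [] T par 85) 85 = true := by decide +kernel

theorem ok : perm.OK where
  hn := by norm_num
  letters := by decide +kernel
  point := (Model.allBelow_iff _ _).1 points

/-- the group on the blocks -/
noncomputable def R : Subgroup (Equiv.Perm (Fin perm.n)) :=
  Subgroup.closure {a | ∃ x < perm.L, ok.sigma x = a}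

theorem gword_mem_R (w : List ℕ) : gword ok.sigma w ∈ R := by
  refine gword_mem _ _ fun x _ => ?_
  by_cases hx : x < perm.L
  · exact Subgroup.subset_closure ⟨x, hx, rfl⟩
  · rw [PermData.OK.sigma, dif_neg hx]; exact one_mem _

/-- the group generated by some words -/
noncomputable def cl85 (S : List (List ℕ)) : Subgroup (Equiv.Perm (Fin perm.n)) :=
  Subgroup.closure {a | ∃ w ∈ S, gword ok.sigma w = a}

theorem small7 {S : List (List ℕ)} (h : (S.all fun w => w.all fun x => x.blt 7) = true) :
    ∀ w ∈ S, ∀ x ∈ w, x < perm.L := by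
  intro w hw x hx
  have := List.all_eq_true.1 (List.all_eq_true.1 h w hw) x hx
  simp only [Nat.blt, Nat.ble_eq] at this
  exact this

theorem orbit_size {S : List (List ℕ)} (hS : (S.all fun w => w.all fun x => x.blt 7) = true)
    (lab orank opar ogen root : ℕ → ℕ)
    (hc : allBelow (checkOrbit T 7 S lab orank opar ogen root 85) 85 = true)
    (p : Fin perm.n) {k : ℕ} (hk : countLabel lab (lab p) 85 = k) :
    (MulAction.orbit (cl85 S) p).ncard = k := by
  rw [orbit_eq_label ok S (small7 hS) lab orank opar ogen root ((Model.allBelow_iff _ _).1 hc) (cl85 S) rfl,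
    ncard_label]
  exact hk

/-- a block -/
def bl (i : ℕ) (hi : i < 85 := by decide) : Fin perm.n := ⟨i, hi⟩

theorem le_stab85 {S : List (List ℕ)} (hS : (S.all fun w => w.all fun x => x.blt 7) = true)
    (pts : List (Fin perm.n))
    (hfix : S.all (fun w => pts.all fun p => runT perm.T perm.L w p == (p : ℕ)) = true) :
    cl85 S ≤ pointStab R pts :=
  closure_words_le_pointStab ok S (small7 hS) _ (fun w _ => gword_mem_R w) pts hfix

theorem card_R_ge : 979200 ≤ Nat.card R := by
  have h3 : 4 * 1 ≤ Nat.card (pointStab R [bl 45, bl 61, bl 0]) := by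
    rw [← orbit_size (S := words3) (by decide +kernel) lab3 rank3 opar3 ogen3 root3
      (by decide +kernel) (bl 1) (k := 4) (by decide +kernel)]
    exact card_pointStab_ge (le_stab85 (by decide +kernel) _ (by decide +kernel))
      Nat.card_pos
  have h2 : 45 * (4 * 1) ≤ Nat.card (pointStab R [bl 61, bl 0]) := by
    rw [← orbit_size (S := words2) (by decide +kernel) lab2 rank2 opar2 ogen2 root2
      (by decide +kernel) (bl 45) (k := 45) (by decide +kernel)]
    exact card_pointStab_ge (le_stab85 (by decide +kernel) _ (by decide +kernel)) h3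
  have h1 : 64 * (45 * (4 * 1)) ≤ Nat.card (pointStab R [bl 0]) := by
    rw [← orbit_size (S := words1) (by decide +kernel) lab1 rank1 opar1 ogen1 root1
      (by decide +kernel) (bl 61) (k := 64) (by decide +kernel)]
    exact card_pointStab_ge (le_stab85 (by decide +kernel) _ (by decide +kernel)) h2
  have h0 : 85 * (64 * (45 * (4 * 1))) ≤ Nat.card (pointStab R []) := by
    rw [← orbit_size (S := words0) (by decide +kernel) lab0 rank0 opar0 ogen0 root0
      (by decide +kernel) (bl 0) (k := 85) (by decide +kernel)]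
    exact card_pointStab_ge (le_stab85 (by decide +kernel) _ (by decide +kernel)) h1
  simpa [pointStab] using h0

/-- the block of a point, if it has one -/
noncomputable def blockOf (i : Fin Tab.perm.n) : Option (Fin perm.n) :=
  if h : blk i < 85 then some ⟨blk i, h⟩ else none

/-- a permutation of the points induces a permutation of the blocks -/
def Induces (σ : Equiv.Perm (Fin Tab.perm.n)) (τ : Equiv.Perm (Fin perm.n)) : Prop :=
  ∀ i, blockOf (σ i) = (blockOf i).map τ

theorem Induces.one : Induces 1 1 := fun i => by cases h : blockOf i <;> simp [h]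

theorem Induces.mul {σ σ' : Equiv.Perm (Fin Tab.perm.n)} {τ τ' : Equiv.Perm (Fin perm.n)}
    (h : Induces σ τ) (h' : Induces σ' τ') : Induces (σ * σ') (τ * τ') := fun i => by
  rw [Equiv.Perm.mul_apply, h, h', Option.map_map]; rfl

theorem Induces.inv {σ : Equiv.Perm (Fin Tab.perm.n)} {τ : Equiv.Perm (Fin perm.n)}
    (h : Induces σ τ) : Induces σ⁻¹ τ⁻¹ := fun i => by
  have := h (σ⁻¹ i)
  rw [Equiv.Perm.coe_inv, Equiv.apply_symm_apply] at this
  rw [this, Option.map_map]
  cases hb : blockOf (σ⁻¹ i) <;>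
    simp only [Equiv.Perm.coe_inv] at hb <;> simp [hb]

theorem blockOf_surjective : ∀ j, ∃ i, blockOf i = some j := by
  intro j
  have h : allBelow (fun j => ((List.range 2058).filter fun i => blk i == j) != []) 85 = true := by
    decide +kernel
  have hj := (Model.allBelow_iff _ _).1 h j j.2
  simp only [bne_iff_ne, ne_eq] at hj
  obtain ⟨i, hi⟩ := List.exists_mem_of_ne_nil _ hj
  rw [List.mem_filter, List.mem_range, beq_iff_eq] at hi
  refine ⟨⟨i, hi.1⟩, ?_⟩
  rw [blockOf, dif_pos (show blk i < 85 from hi.2 ▸ j.2)]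
  exact congrArg some (Fin.ext hi.2)

theorem Induces.unique {σ : Equiv.Perm (Fin Tab.perm.n)} {τ τ' : Equiv.Perm (Fin perm.n)}
    (h : Induces σ τ) (h' : Induces σ τ') : τ = τ' := Equiv.ext fun j => by
  obtain ⟨i, hi⟩ := blockOf_surjective j
  have := (h i).symm.trans (h' i)
  rwa [hi, Option.map_some, Option.map_some, Option.some.injEq] at this

theorem nW_small : smallWords ((List.range 7).map nW) = true := by decide +kernel

theorem nW_lt {x : ℕ} (hx : x < 7) : ∀ y ∈ nW x, y < Tab.perm.L :=
  small nW_small _ (List.mem_map.2 ⟨x, List.mem_range.2 hx, rfl⟩)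

theorem induces_check : allBelow (fun x => allBelow (fun i =>
    blk (runT Tab.perm.T Tab.perm.L (nW x) i) ==
      (bif (blk i).blt 85 then T (7 * blk i + x) else 85)) 2058) 7 = true := by decide +kernel

theorem induces_letter {x : ℕ} (hx : x < 7) : Induces (gword perm_ok.sigma (nW x)) (ok.sigma x) := by
  suffices h : Induces (gword perm_ok.sigma (nW x))⁻¹ (ok.sigma x)⁻¹ by simpa using h.inv
  intro i
  have hc := (Model.allBelow_iff _ _).1 ((Model.allBelow_iff _ _).1 induces_check x hx) i i.2
  rw [beq_iff_eq, ← perm_ok.gword_inv_apply _ (nW_lt hx)] at hc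
  by_cases hi : blk i < 85
  · have hi' : (blk i).blt 85 = true := by simp only [Nat.blt, Nat.ble_eq]; exact hi
    rw [hi', cond_true] at hc
    have hs := ok.sigma_inv_apply (x := x) hx ⟨blk i, hi⟩
    have hlt : blk ((gword perm_ok.sigma (nW x))⁻¹ i : Fin Tab.perm.n) < 85 := by
      rw [hc]; exact ((ok.point' hi).1 x hx).1
    rw [blockOf, dif_pos hlt, blockOf, dif_pos hi, Option.map_some]
    exact congrArg some (Fin.ext (hc.trans hs.symm))
  · have hi' : (blk i).blt 85 = false := by
      rw [← Bool.not_eq_true]; simp only [Nat.blt, Nat.ble_eq]; exact hi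
    rw [hi', cond_false] at hc
    rw [blockOf, dif_neg (by rw [hc]; omega), blockOf, dif_neg hi, Option.map_none]

/-- the transposition of a pair of numbers below 85 -/
noncomputable def swapOf (p : ℕ × ℕ) : Equiv.Perm (Fin perm.n) :=
  if h : p.1 < 85 ∧ p.2 < 85 then Equiv.swap ⟨p.1, h.1⟩ ⟨p.2, h.2⟩ else 1

/-- a list of proper transpositions -/
def properSwaps (l : List (ℕ × ℕ)) : Bool :=
  l.all fun p => p.1.blt 85 && p.2.blt 85 && !(p.1 == p.2)

theorem sign_swaps {l : List (ℕ × ℕ)} (h : properSwaps l = true) :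
    Equiv.Perm.sign (l.map swapOf).prod = (-1) ^ l.length := by
  induction l with
  | nil => simp
  | cons p l ih =>
    rw [properSwaps, List.all_cons, Bool.and_eq_true] at h
    obtain ⟨hp, hl⟩ := h
    simp only [Bool.and_eq_true, Nat.blt, Nat.ble_eq, Bool.not_eq_true', beq_eq_false_iff_ne] at hp
    rw [List.map_cons, List.prod_cons, map_mul, ih hl, List.length_cons, pow_succ', swapOf,
      dif_pos ⟨hp.1.1, hp.1.2⟩, Equiv.Perm.sign_swap fun he => hp.2 (congrArg Fin.val he)]

/-- the swaps of letter `x` -/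
def swapsOf (x : ℕ) : List (ℕ × ℕ) := swapCode.getD x []

theorem swaps_check : (List.range 6).all (fun x => properSwaps (swapsOf x) &&
    (swapsOf x).length % 2 == 0 && (List.finRange 85).all fun i =>
      (((swapsOf x).map swapOf).prod i : ℕ) == T (7 * (i : ℕ) + iv x)) = true := by
  decide +kernel

theorem sign_letter {x : ℕ} (hx : x < 7) : Equiv.Perm.sign (ok.sigma x) = 1 := by
  have hlow : ∀ y < 6, Equiv.Perm.sign (ok.sigma y) = 1 := by
    intro y hy
    have h := List.all_eq_true.1 swaps_check y (List.mem_range.2 hy)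
    simp only [Bool.and_eq_true, beq_iff_eq, List.all_eq_true] at h
    have he : ok.sigma y = ((swapsOf y).map swapOf).prod := Equiv.ext fun i => Fin.ext <| by
      rw [h.2 i (List.mem_finRange _), PermData.OK.sigma, dif_pos (show y < perm.L by
        show y < 7; omega)]
      rfl
    rw [he, sign_swaps h.1.1]
    exact Even.neg_one_pow (Nat.even_iff.2 h.1.2)
  rcases Nat.lt_succ_iff_lt_or_eq.1 hx with h | rfl
  · exact hlow x h
  · rw [show (6 : ℕ) = perm.iv 5 from rfl, ok.sigma_iv (by norm_num), map_inv, hlow 5 (by omega),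
      inv_one]

theorem sign_R {a : Equiv.Perm (Fin perm.n)} (ha : a ∈ R) : Equiv.Perm.sign a = 1 := by
  have : R ≤ (Equiv.Perm.sign : Equiv.Perm (Fin perm.n) →* ℤˣ).ker := by
    rw [R, Subgroup.closure_le]
    rintro _ ⟨x, hx, rfl⟩
    exact sign_letter hx
  exact this ha

theorem tswap_check : properSwaps swapT && swapT.length % 2 == 1 &&
    (List.finRange 2058).all (fun i =>
      blk (runT Tab.perm.T Tab.perm.L [1, 0, 1, 0] (i : ℕ)) ==
        (if h : blk (i : ℕ) < 85 then ((swapT.map swapOf).prod ⟨blk (i : ℕ), h⟩ : ℕ) else 85))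
      = true := by
  decide +kernel

/-- `(ab)^2` acts on the blocks as an odd permutation. -/
theorem not_induced {τ : Equiv.Perm (Fin perm.n)} (hτ : τ ∈ R)
    (h : Induces (gword perm_ok.sigma [0, 1, 0, 1]) τ) : False := by
  have hc := tswap_check
  simp only [Bool.and_eq_true, beq_iff_eq, List.all_eq_true, decide_eq_true_eq] at hc
  have hinv : (gword perm_ok.sigma [1, 0, 1, 0])⁻¹ = gword perm_ok.sigma [0, 1, 0, 1] := by
    rw [← gword_inverse perm_ok.sigma Tab.perm.iv
      (fun x => perm_ok.sigma_iv_all (fun _ hx => hx) x)]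
    rfl
  obtain ⟨⟨hs1, hs2⟩, hc⟩ := hc
  have hτ' : Induces (gword perm_ok.sigma [0, 1, 0, 1]) (swapT.map swapOf).prod := by
    generalize (swapT.map swapOf).prod = P at hc ⊢
    intro i
    have hi := hc i (List.mem_finRange _)
    rw [← perm_ok.gword_inv_apply [1, 0, 1, 0] (by decide), hinv] at hi
    by_cases hb : blk i < 85
    · rw [dif_pos hb] at hi
      have hl : ∀ q : Fin perm.n, (q : ℕ) < 85 := fun q => q.2
      rw [blockOf, dif_pos (lt_of_eq_of_lt hi (hl _)), blockOf, dif_pos hb, Option.map_some]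
      exact congrArg some (Fin.ext hi)
    · rw [dif_neg hb] at hi
      rw [blockOf, dif_neg (by omega), blockOf, dif_neg hb, Option.map_none]
  have hs := sign_R hτ
  rw [h.unique hτ', sign_swaps hs1, Odd.neg_one_pow (Nat.odd_iff.2 hs2)] at hs
  exact absurd hs (by decide)

end CfsgLib.CosetEnum.He.Sp4
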